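import Groth.Prelude.Def_EtMod2
import Groth.Agent.EtFound.FLCAb
import Mathlib.Algebra.Category.ModuleCat.AB
import Mathlib.Algebra.Category.ModuleCat.EpiMono
import Mathlib.Algebra.Homology.ShortComplex.ModuleCat
import Mathlib.RingTheory.Noetherian.Basic
import Mathlib.RingTheory.Finiteness.Cardinality

/-!
# Finite type locally constant sheaves of modules: kernels, cokernels, extensions
-/

set_option autoImplicit false

universe u

open CategoryTheory CategoryTheory.Limits AlgebraicGeometry Opposite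

namespace Groth.Agent.FTConst

set_option backward.isDefEq.respectTransparency.types false

variable {Λ : Type (u + 1)} [CommRing Λ]

instance preservesFilteredColimits_forget :
    PreservesFilteredColimitsOfSize.{u, u} (forget (ModuleCat.{u + 1} Λ)) :=
  preservesFilteredColimitsOfSize_of_univLE.{u + 1, u + 1, u, u} _

instance hasLimits : HasLimitsOfSize.{u, u} (ModuleCat.{u + 1} Λ) :=
  ModuleCat.hasLimitsOfSize.{u, u, u + 1, u + 1}

instance hasProducts : HasProducts.{u} (ModuleCat.{u + 1} Λ) := fun _ => inferInstance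

instance ab5 : AB5OfSize.{u, u} (ModuleCat.{u + 1} Λ) :=
  AB5OfSize_of_univLE.{u, u, u + 1, u + 1} (ModuleCat.{u + 1} Λ)

variable {X : Scheme.{u}}

instance stalk_preservesFiniteLimits {Ω : Type u} [Field Ω] [IsSepClosed Ω]
    (ξ : Spec (CommRingCat.of Ω) ⟶ X) : PreservesFiniteLimits (EtModW.stalk Λ ξ) :=
  inferInstanceAs (PreservesFiniteLimits (Scheme.pointSmallEtale ξ).sheafFiber)

instance stalk_preservesFiniteColimits {Ω : Type u} [Field Ω] [IsSepClosed Ω]
    (ξ : Spec (CommRingCat.of Ω) ⟶ X) : PreservesFiniteColimits (EtModW.stalk Λ ξ) :=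
  inferInstanceAs (PreservesFiniteColimits (Scheme.pointSmallEtale ξ).sheafFiber)

section Germ

variable {Ω : Type u} [Field Ω] [IsSepClosed Ω] (ξ : Spec (CommRingCat.of Ω) ⟶ X)

lemma stalk_injective {F G : EtModW.Mod Λ X} (a : F ⟶ G) [Mono a] :
    Function.Injective ((EtModW.stalk Λ ξ).map a) :=
  (ModuleCat.mono_iff_injective _).1 inferInstance

lemma stalk_surjective {F G : EtModW.Mod Λ X} (a : F ⟶ G) [Epi a] :
    Function.Surjective ((EtModW.stalk Λ ξ).map a) :=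
  (ModuleCat.epi_iff_surjective _).1 inferInstance

lemma stalk_exact {S : ShortComplex (EtModW.Mod Λ X)} (hS : S.Exact)
    (p : (EtModW.stalk Λ ξ).obj S.X₂) (hp : (EtModW.stalk Λ ξ).map S.g p = 0) :
    ∃ q : (EtModW.stalk Λ ξ).obj S.X₁, (EtModW.stalk Λ ξ).map S.f q = p :=
  (ShortComplex.moduleCat_exact_iff _).1 (hS.map (EtModW.stalk Λ ξ)) p hp

variable {ξ}

lemma stalk_germ {F G : EtModW.Mod Λ X} (a : F ⟶ G) {V : X.Etale}
    (v : (Scheme.pointSmallEtale ξ).fiber.obj V) (s : F.obj.obj (op V)) :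
    (EtModW.stalk Λ ξ).map a ((Scheme.pointSmallEtale ξ).toPresheafFiber V v F.obj s) =
      (Scheme.pointSmallEtale ξ).toPresheafFiber V v G.obj (a.hom.app (op V) s) :=
  (Scheme.pointSmallEtale ξ).toPresheafFiber_naturality_apply a.hom V v s

/-- Finitely many germs are represented over one neighbourhood. -/
theorem exists_forall_rep (F : EtModW.Mod Λ X) {U : X.Etale} (u : (Scheme.pointSmallEtale ξ).fiber.obj U)
    {κ : Type*} [Finite κ] (p : κ → (EtModW.stalk Λ ξ).obj F) :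
    ∃ (V : X.Etale) (g : V ⟶ U) (v : (Scheme.pointSmallEtale ξ).fiber.obj V)
      (s : κ → F.obj.obj (op V)),
      (Scheme.pointSmallEtale ξ).fiber.map g v = u ∧
        ∀ k, (Scheme.pointSmallEtale ξ).toPresheafFiber V v F.obj (s k) = p k := by
  classical
  haveI := Fintype.ofFinite κ
  suffices key : ∀ T : Finset κ, ∃ (V : X.Etale) (g : V ⟶ U) (v : (Scheme.pointSmallEtale ξ).fiber.obj V)
      (s : κ → F.obj.obj (op V)), (Scheme.pointSmallEtale ξ).fiber.map g v = u ∧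
        ∀ k ∈ T, (Scheme.pointSmallEtale ξ).toPresheafFiber V v F.obj (s k) = p k by
    obtain ⟨V, g, v, s, hv, hs⟩ := key Finset.univ
    exact ⟨V, g, v, s, hv, fun k => hs k (Finset.mem_univ k)⟩
  intro T
  induction T using Finset.induction with
  | empty => exact ⟨U, 𝟙 U, u, fun _ => 0, by simp, fun k hk => absurd hk (Finset.notMem_empty k)⟩
  | @insert k T _ ih =>
    obtain ⟨V, g, v, s, hv, hs⟩ := ih
    obtain ⟨V', v', t, ht⟩ := (Scheme.pointSmallEtale ξ).toPresheafFiber_jointly_surjective (p k)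
    obtain ⟨⟨W, w⟩, ⟨a, ha⟩, ⟨b, hb⟩, -⟩ := IsCofilteredOrEmpty.cone_objs
      ((Scheme.pointSmallEtale ξ).fiber.elementsMk V v) ((Scheme.pointSmallEtale ξ).fiber.elementsMk V' v')
    refine ⟨W, a ≫ g, w, Function.update (fun i => F.obj.map a.op (s i)) k (F.obj.map b.op t), ?_, fun i hi => ?_⟩
    · rw [Functor.map_comp_apply]
      exact (congrArg _ ha).trans hv
    · by_cases hik : i = k
      · subst hik
        rw [Function.update_self, (Scheme.pointSmallEtale ξ).toPresheafFiber_w_apply]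
        exact (congrArg (fun v'' => (Scheme.pointSmallEtale ξ).toPresheafFiber V' v'' F.obj t) hb).trans ht
      · rw [Function.update_of_ne hik, (Scheme.pointSmallEtale ξ).toPresheafFiber_w_apply]
        exact (congrArg (fun v'' => (Scheme.pointSmallEtale ξ).toPresheafFiber V v'' F.obj (s i)) ha).trans
          (hs i ((Finset.mem_insert.1 hi).resolve_left hik))

end Germ

/-- A finite type family of sections inducing all geometric stalks over `U`. -/
structure Chart (F : EtModW.Mod Λ X) (U : X.Etale) : Type (u + 2) where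
  /-- the module -/
  M : ModuleCat.{u + 1} Λ
  [fin : Module.Finite Λ M]
  /-- the sections -/
  φ : M ⟶ F.obj.obj (op U)
  const : EtFound.ConstBy F φ

attribute [instance] Chart.fin

/-- Restriction of a chart. -/
def Chart.restrict {F : EtModW.Mod Λ X} {U : X.Etale} (c : Chart F U) {V : X.Etale} (g : V ⟶ U) : Chart F V where
  M := c.M
  φ := c.φ ≫ F.obj.map g.op
  const := c.const.restrict g

lemma Chart.germ_eq_zero {F : EtModW.Mod Λ X} {U : X.Etale} (c : Chart F U) {Ω : Type u} [Field Ω]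
    [IsAlgClosed Ω] {ξ : Spec (CommRingCat.of Ω) ⟶ X} (z : (Scheme.pointSmallEtale ξ).fiber.obj U) {m : c.M}
    (h : (Scheme.pointSmallEtale ξ).toPresheafFiber U z F.obj (c.φ m) = 0) : m = 0 := by
  refine (c.const Ω ξ z).1 ?_
  rw [map_zero]
  exact h

lemma Chart.exists_germ {F : EtModW.Mod Λ X} {U : X.Etale} (c : Chart F U) {Ω : Type u} [Field Ω]
    [IsAlgClosed Ω] {ξ : Spec (CommRingCat.of Ω) ⟶ X} (z : (Scheme.pointSmallEtale ξ).fiber.obj U)
    (p : (EtModW.stalk Λ ξ).obj F) :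
    ∃ m : c.M, (Scheme.pointSmallEtale ξ).toPresheafFiber U z F.obj (c.φ m) = p :=
  (c.const Ω ξ z).2 p

theorem exists_chart {F : EtModW.Mod Λ X} (hF : EtModW.IsFTLocConst Λ F) (x : X) :
    ∃ (U : X.Etale) (p : U.left), U.hom.base p = x ∧ Nonempty (Chart F U) := by
  obtain ⟨ι, U, hU, h⟩ := hF
  obtain ⟨i, p, hp⟩ := hU x
  obtain ⟨M, iM, mM, fM, ⟨e⟩⟩ := h i
  obtain ⟨φ, hφ⟩ := EtFound.exists_constBy e
  exact ⟨U i, p, hp, ⟨{ M := ModuleCat.of Λ M, φ := φ, const := hφ }⟩⟩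

theorem isFTLocConst_of_charts (F : EtModW.Mod Λ X)
    (h : ∀ x : X, ∃ (U : X.Etale) (p : U.left), U.hom.base p = x ∧ Nonempty (Chart F U)) :
    EtModW.IsFTLocConst Λ F := by
  choose U p hp hc using h
  exact ⟨X, U, fun x => ⟨x, p x, hp x⟩, fun x => ⟨(hc x).some.M, inferInstance, inferInstance, inferInstance,
    EtFound.nonempty_restr_iso_const (hc x).some.const⟩⟩

theorem exists_common {F G : EtModW.Mod Λ X} (hF : EtModW.IsFTLocConst Λ F) (hG : EtModW.IsFTLocConst Λ G)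
    (x : X) :
    ∃ (Ω : Type u) (_ : Field Ω) (_ : IsAlgClosed Ω) (ξ : Spec (CommRingCat.of Ω) ⟶ X) (U : X.Etale)
      (_ : (Scheme.pointSmallEtale ξ).fiber.obj U) (_ : Chart F U) (_ : Chart G U),
      ξ.base (default : Spec (CommRingCat.of Ω)) = x := by
  obtain ⟨U₁, p₁, hp₁, ⟨c⟩⟩ := exists_chart hF x
  obtain ⟨U₂, p₂, hp₂, ⟨d⟩⟩ := exists_chart hG x
  obtain ⟨Ω, _, _, ξ, u₁, hu₁⟩ := EtFound.exists_algClosed_point U₁ p₁
  have hξ : ξ.base (default : Spec (CommRingCat.of Ω)) = x :=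
    (EtFound.base_of_point u₁).symm.trans ((congrArg _ hu₁).trans hp₁)
  obtain ⟨u₂, -⟩ := Scheme.pointSmallEtaleFiberObjToPreimage_surjective ξ hξ U₂ ⟨p₂, hp₂⟩
  obtain ⟨⟨W, w⟩, ⟨a, -⟩, ⟨b, -⟩, -⟩ := IsCofilteredOrEmpty.cone_objs
    ((Scheme.pointSmallEtale ξ).fiber.elementsMk U₁ u₁) ((Scheme.pointSmallEtale ξ).fiber.elementsMk U₂ u₂)
  exact ⟨Ω, inferInstance, inferInstance, ξ, W, w, c.restrict a, d.restrict b, hξ⟩

/-- Locally, a map between constant sheaves comes from a map of modules. -/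
theorem exists_hom_chart {F G : EtModW.Mod Λ X} (a : F ⟶ G) {U : X.Etale} (c : Chart F U) (d : Chart G U)
    {Ω : Type u} [Field Ω] [IsAlgClosed Ω] {ξ : Spec (CommRingCat.of Ω) ⟶ X}
    (u : (Scheme.pointSmallEtale ξ).fiber.obj U) :
    ∃ (V : X.Etale) (g : V ⟶ U) (_ : (Scheme.pointSmallEtale ξ).fiber.obj V) (h : c.M →ₗ[Λ] d.M),
      ∀ m : c.M, a.hom.app (op V) ((c.restrict g).φ m) = (d.restrict g).φ (h m) := by
  obtain ⟨S, hS⟩ := Module.Finite.fg_top (R := Λ) (M := c.M)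
  let k := d.φ ≫ (Scheme.pointSmallEtale ξ).toPresheafFiber U u G.obj
  have hk : IsIso k := (ConcreteCategory.isIso_iff_bijective _).2 (d.const Ω ξ u)
  let h : c.M ⟶ d.M := c.φ ≫ a.hom.app (op U) ≫ (Scheme.pointSmallEtale ξ).toPresheafFiber U u G.obj ≫ inv k
  have e : h ≫ k = c.φ ≫ a.hom.app (op U) ≫ (Scheme.pointSmallEtale ξ).toPresheafFiber U u G.obj := by
    simp only [h, Category.assoc, IsIso.inv_hom_id, Category.comp_id]
  obtain ⟨V, g, v, -, hg⟩ := EtFound.exists_forall_eq G.obj u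
    (fun m : (S : Set c.M) => a.hom.app (op U) (c.φ m.1)) (fun m => d.φ (h m.1))
    (fun m => (ConcreteCategory.congr_hom e m.1).symm)
  refine ⟨V, g, v, h.hom, fun m => ?_⟩
  have e' : (c.φ ≫ F.obj.map g.op) ≫ a.hom.app (op V) = h ≫ d.φ ≫ G.obj.map g.op :=
    ModuleCat.hom_ext (LinearMap.ext_on hS fun m hm =>
      (NatTrans.naturality_apply a.hom g.op (c.φ m)).trans (hg ⟨m, hm⟩))
  exact ConcreteCategory.congr_hom e' m

lemma sect_zero {S : ShortComplex (EtModW.Mod Λ X)} (V : X.Etale) (a : S.X₁.obj.obj (op V)) :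
    S.g.hom.app (op V) (S.f.hom.app (op V) a) = 0 :=
  ConcreteCategory.congr_hom (congrArg (fun m : S.X₁ ⟶ S.X₃ => m.hom.app (op V)) S.zero) a

lemma sect_exact {S : ShortComplex (EtModW.Mod Λ X)} [Mono S.f] (hS : S.Exact) (V : X.Etale)
    (s : S.X₂.obj.obj (op V)) (hs : S.g.hom.app (op V) s = 0) :
    ∃ a, S.f.hom.app (op V) a = s := by
  have h1 := hS.map_of_mono_of_preservesKernel
    (sheafToPresheaf _ _ ⋙ (evaluation _ (ModuleCat.{u + 1} Λ)).obj (op V)) inferInstance inferInstance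
  exact (ShortComplex.moduleCat_exact_iff _).1 h1 s hs

lemma sect_injective {F G : EtModW.Mod Λ X} (a : F ⟶ G) [Mono a] (V : X.Etale) :
    Function.Injective (a.hom.app (op V)) :=
  (ModuleCat.mono_iff_injective _).1 (inferInstanceAs
    (Mono ((sheafToPresheaf _ _ ⋙ (evaluation _ (ModuleCat.{u + 1} Λ)).obj (op V)).map a)))

theorem isFTLocConst_of_kernel [IsNoetherianRing Λ] {S : ShortComplex (EtModW.Mod Λ X)} [Mono S.f]
    (hS : S.Exact) (h2 : EtModW.IsFTLocConst Λ S.X₂) (h3 : EtModW.IsFTLocConst Λ S.X₃) :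
    EtModW.IsFTLocConst Λ S.X₁ := by
  refine isFTLocConst_of_charts _ fun x => ?_
  obtain ⟨Ω, _, _, ξ, U, u, c₀, d₀, hξ⟩ := exists_common h2 h3 x
  obtain ⟨V, g, v, h, hh⟩ := exists_hom_chart S.g c₀ d₀ u
  let c := c₀.restrict g
  let d := d₀.restrict g
  have hh' : ∀ m : c.M, S.g.hom.app (op V) (c.φ m) = d.φ (h m) := hh
  have hlift : ∀ m : LinearMap.ker h, ∃ a, S.f.hom.app (op V) a = c.φ m.1 := fun m => sect_exact hS V _ (by
    rw [hh', LinearMap.mem_ker.1 m.2]
    exact map_zero _)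
  choose l hl using hlift
  let φ : ModuleCat.of Λ (LinearMap.ker h) ⟶ S.X₁.obj.obj (op V) := ModuleCat.ofHom
    { toFun := l
      map_add' := fun m n => sect_injective S.f V (by
        rw [map_add, hl, hl, hl]
        exact map_add c.φ.hom m.1 n.1)
      map_smul' := fun r m => sect_injective S.f V (by
        rw [RingHom.id_apply, map_smul, hl, hl]
        exact map_smul c.φ.hom r m.1) }
  refine ⟨V, _, (EtFound.base_of_point v).trans hξ, ⟨{ M := ModuleCat.of Λ (LinearMap.ker h), φ := φ, const := ?_ }⟩⟩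
  intro Ω' _ _ ζ z
  have key : ∀ m : LinearMap.ker h, (EtModW.stalk Λ ζ).map S.f
      ((Scheme.pointSmallEtale ζ).toPresheafFiber V z S.X₁.obj (l m)) =
      (Scheme.pointSmallEtale ζ).toPresheafFiber V z S.X₂.obj (c.φ m.1) := fun m => by
    rw [stalk_germ, hl]
  constructor
  · refine fun a b e => Subtype.ext ((c.const Ω' ζ z).1 ?_)
    exact (key a).symm.trans ((congrArg _ e).trans (key b))
  · intro q
    obtain ⟨m, hm⟩ := c.exists_germ z ((EtModW.stalk Λ ζ).map S.f q)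
    have hm0 : h m = 0 := d.germ_eq_zero z (by
      rw [← hh', ← stalk_germ]
      exact (congrArg _ hm).trans (ConcreteCategory.congr_hom (S.map (EtModW.stalk Λ ζ)).zero q))
    exact ⟨⟨m, hm0⟩, stalk_injective ζ S.f ((key ⟨m, hm0⟩).trans hm)⟩

theorem isFTLocConst_of_cokernel {S : ShortComplex (EtModW.Mod Λ X)} [Epi S.g]
    (hS : S.Exact) (h1 : EtModW.IsFTLocConst Λ S.X₁) (h2 : EtModW.IsFTLocConst Λ S.X₂) :
    EtModW.IsFTLocConst Λ S.X₃ := by
  refine isFTLocConst_of_charts _ fun x => ?_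
  obtain ⟨Ω, _, _, ξ, U, u, b₀, c₀, hξ⟩ := exists_common h1 h2 x
  obtain ⟨V, g, v, h, hh⟩ := exists_hom_chart S.f b₀ c₀ u
  let b := b₀.restrict g
  let c := c₀.restrict g
  have hh' : ∀ m : b.M, S.f.hom.app (op V) (b.φ m) = c.φ (h m) := hh
  let k := c.φ ≫ S.g.hom.app (op V)
  refine ⟨V, _, (EtFound.base_of_point v).trans hξ, ⟨{
    M := ModuleCat.of Λ (LinearMap.range k.hom)
    φ := ModuleCat.ofHom (LinearMap.range k.hom).subtype
    const := ?_ }⟩⟩
  intro Ω' _ _ ζ z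
  constructor
  · rintro ⟨_, m, rfl⟩ ⟨_, m', rfl⟩ e
    have e0 : (EtModW.stalk Λ ζ).map S.g ((Scheme.pointSmallEtale ζ).toPresheafFiber V z S.X₂.obj (c.φ (m - m'))) = 0 := by
      rw [stalk_germ, map_sub, map_sub, map_sub]
      exact sub_eq_zero.2 e
    obtain ⟨q, hq⟩ := stalk_exact ζ hS _ e0
    obtain ⟨a, rfl⟩ := b.exists_germ z q
    rw [stalk_germ, hh'] at hq
    have hm : h a = m - m' := (c.const Ω' ζ z).1 hq
    refine Subtype.ext (sub_eq_zero.1 ?_)
    rw [← map_sub, ← hm]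
    show S.g.hom.app (op V) (c.φ (h a)) = 0
    rw [← hh']
    exact sect_zero V _
  · intro p
    obtain ⟨q, rfl⟩ := stalk_surjective ζ S.g p
    obtain ⟨m, rfl⟩ := c.exists_germ z q
    exact ⟨⟨_, m, rfl⟩, (stalk_germ S.g z (c.φ m)).symm⟩

theorem isFTLocConst_of_extension [IsNoetherianRing Λ] {S : ShortComplex (EtModW.Mod Λ X)}
    (hS : S.ShortExact) (h1 : EtModW.IsFTLocConst Λ S.X₁) (h3 : EtModW.IsFTLocConst Λ S.X₃) :
    EtModW.IsFTLocConst Λ S.X₂ := by
  have := hS.mono_f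
  have := hS.epi_g
  refine isFTLocConst_of_charts _ fun x => ?_
  obtain ⟨Ω, _, _, ξ, U, u, b₀, d₀, hξ⟩ := exists_common h1 h3 x
  obtain ⟨n, t, ht⟩ := Module.Finite.exists_fin (R := Λ) (M := d₀.M)
  choose p hp using fun k : Fin n => stalk_surjective ξ S.g
    ((Scheme.pointSmallEtale ξ).toPresheafFiber U u S.X₃.obj (d₀.φ (t k)))
  obtain ⟨V₁, g₁, v₁, s₁, hv₁, hs₁⟩ := exists_forall_rep S.X₂ u p
  let d₁ := d₀.restrict g₁
  obtain ⟨V₂, g₂, v₂, hv₂, hg₂⟩ := EtFound.exists_forall_eq S.X₃.obj v₁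
    (fun k => S.g.hom.app (op V₁) (s₁ k)) (fun k => d₁.φ (t k)) (fun k => by
      rw [← stalk_germ, hs₁, hp, ← hv₁]
      exact ((Scheme.pointSmallEtale ξ).toPresheafFiber_w_apply g₁ v₁ S.X₃.obj _).symm)
  let d₂ := d₁.restrict g₂
  let b₂ := (b₀.restrict g₁).restrict g₂
  let σ₂ := Fintype.linearCombination Λ (fun k => S.X₂.obj.map g₂.op (s₁ k))
  let π := Fintype.linearCombination Λ t
  have hσπ : ∀ r : Fin n → Λ, S.g.hom.app (op V₂) (σ₂ r) = d₂.φ (π r) := fun r => by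
    simp only [σ₂, π, Fintype.linearCombination_apply, map_sum, map_smul]
    refine (Finset.sum_congr rfl fun k _ => congrArg (r k • ·)
      ((NatTrans.naturality_apply S.g.hom g₂.op (s₁ k)).trans (hg₂ k))).trans ?_
    refine Eq.trans ?_ (map_sum d₂.φ.hom (fun k : Fin n => r k • t k) Finset.univ).symm
    exact Finset.sum_congr rfl fun k _ => (map_smul d₂.φ.hom (r k) (t k)).symm
  obtain ⟨R, hR⟩ := IsNoetherian.noetherian (LinearMap.ker π)
  have hRmem : ∀ r : (R : Set (Fin n → Λ)), π r.1 = 0 := fun r => by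
    have : r.1 ∈ LinearMap.ker π := hR ▸ Submodule.subset_span r.2
    exact this
  choose a ha using fun r : (R : Set (Fin n → Λ)) =>
    sect_exact hS.exact V₂ (σ₂ r.1) (by rw [hσπ, hRmem]; exact map_zero _)
  choose m hm using fun r : (R : Set (Fin n → Λ)) =>
    b₂.exists_germ v₂ ((Scheme.pointSmallEtale ξ).toPresheafFiber V₂ v₂ S.X₁.obj (a r))
  obtain ⟨V, g₃, v, hv, hg₃⟩ := EtFound.exists_forall_eq S.X₁.obj v₂ a (fun r => b₂.φ (m r)) (fun r => (hm r).symm)
  let b := b₂.restrict g₃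
  let d := d₂.restrict g₃
  let σ := (S.X₂.obj.map g₃.op).hom.comp σ₂
  let f₁ := (b.φ ≫ S.f.hom.app (op V)).hom
  have hd : ∀ r : Fin n → Λ, S.g.hom.app (op V) (σ r) = d.φ (π r) := fun r =>
    (NatTrans.naturality_apply S.g.hom g₃.op (σ₂ r)).trans (congrArg (S.X₃.obj.map g₃.op) (hσπ r))
  have hker : ∀ r : Fin n → Λ, π r = 0 → σ r ∈ LinearMap.range f₁ := by
    intro r hr
    have hle : LinearMap.ker π ≤ Submodule.comap σ (LinearMap.range f₁) := by
      rw [← hR, Submodule.span_le]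
      intro r' hr'
      refine ⟨m ⟨r', hr'⟩, ?_⟩
      show S.f.hom.app (op V) (S.X₁.obj.map g₃.op (b₂.φ (m ⟨r', hr'⟩))) = S.X₂.obj.map g₃.op (σ₂ r')
      rw [← hg₃ ⟨r', hr'⟩, ← ha ⟨r', hr'⟩]
      exact NatTrans.naturality_apply S.f.hom g₃.op _
    exact hle hr
  let M₂ : Submodule Λ (S.X₂.obj.obj (op V)) := LinearMap.range f₁ ⊔ LinearMap.range σ
  have : Module.Finite Λ M₂ := by
    have h1 : (LinearMap.range f₁).FG := by
      rw [LinearMap.range_eq_map]; exact (Module.Finite.fg_top).map _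
    have h2 : (LinearMap.range σ).FG := by
      rw [LinearMap.range_eq_map]; exact (Module.Finite.fg_top).map _
    exact Module.Finite.iff_fg.2 (h1.sup h2)
  refine ⟨V, _, (EtFound.base_of_point v).trans hξ,
    ⟨{ M := ModuleCat.of Λ M₂, φ := ModuleCat.ofHom M₂.subtype, const := ?_ }⟩⟩
  intro Ω' _ _ ζ z
  have surjπ : Function.Surjective π := fun q => by
    have : q ∈ Submodule.span Λ (Set.range t) := ht ▸ Submodule.mem_top
    obtain ⟨r, hr⟩ := (Submodule.mem_span_range_iff_exists_fun Λ).1 this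
    exact ⟨r, (Fintype.linearCombination_apply Λ t r).trans hr⟩
  let germ : S.X₂.obj.obj (op V) →ₗ[Λ] (EtModW.stalk Λ ζ).obj S.X₂ :=
    ((Scheme.pointSmallEtale ζ).toPresheafFiber V z S.X₂.obj).hom
  have hinj : ∀ y ∈ M₂, germ y = 0 → y = 0 := by
    intro y hy h0
    obtain ⟨_, ⟨m', rfl⟩, _, ⟨r, rfl⟩, rfl⟩ := Submodule.mem_sup.1 hy
    have hgy : d.φ (π r) = S.g.hom.app (op V) (f₁ m' + σ r) := by
      rw [map_add, hd, show S.g.hom.app (op V) (f₁ m') = 0 from sect_zero V _, zero_add]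
    have hr : π r = 0 := d.germ_eq_zero z (by
      rw [hgy, ← stalk_germ]
      exact (congrArg _ h0).trans (map_zero _))
    obtain ⟨m'', hm''⟩ := hker r hr
    rw [← hm'', ← map_add] at h0 ⊢
    have h1 : m' + m'' = 0 := b.germ_eq_zero z (stalk_injective ζ S.f
      ((stalk_germ S.f z _).trans (h0.trans (map_zero _).symm)))
    rw [h1, map_zero]
  constructor
  · intro y y' e
    refine Subtype.ext (sub_eq_zero.1 (hinj _ (sub_mem y.2 y'.2) ?_))
    rw [map_sub]
    exact sub_eq_zero.2 e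
  · intro (q : (EtModW.stalk Λ ζ).obj S.X₂)
    obtain ⟨m₃, hm₃⟩ := d.exists_germ z ((EtModW.stalk Λ ζ).map S.g q)
    obtain ⟨r, rfl⟩ := surjπ m₃
    have e0 : (EtModW.stalk Λ ζ).map S.g ((q : (EtModW.stalk Λ ζ).obj S.X₂) - germ (σ r)) = 0 := by
      rw [map_sub, sub_eq_zero, ← hm₃, ← hd]
      exact (stalk_germ S.g z (σ r)).symm
    obtain ⟨q', hq'⟩ := stalk_exact ζ hS.exact _ e0
    obtain ⟨m', rfl⟩ := b.exists_germ z q'
    refine ⟨⟨f₁ m' + σ r, Submodule.add_mem_sup ⟨_, rfl⟩ ⟨_, rfl⟩⟩, ?_⟩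
    show germ (f₁ m' + σ r) = q
    rw [map_add, ← eq_sub_iff_add_eq, ← hq']
    exact (stalk_germ S.f z (b.φ m')).symm

end Groth.Agent.FTConst
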